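/-
Kernel checks of the certificate.
-/
import Cfsg.Agent.Lib.Chev.InvolCert.E8.Tbl8
import Cfsg.Agent.Lib.Chev.InvolCert.E8.Sums

set_option autoImplicit false
set_option Elab.async false

namespace Cfsg.Agent.Chev.InvolCert.E8

open Cfsg.Agent.Chev Cfsg.Agent.Chev.InvolCert

theorem ok8_8 : ((List.range' 512 64).all fun i =>
    ckNodeW Cfsg.Agent.Chev.E8.pk (nfQ Cfsg.Agent.Chev.E8.pk sumT) (cert8.map Prod.fst) tbl8 i) = true := by
  decide +kernel

theorem ok8_9 : ((List.range' 576 64).all fun i =>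
    ckNodeW Cfsg.Agent.Chev.E8.pk (nfQ Cfsg.Agent.Chev.E8.pk sumT) (cert8.map Prod.fst) tbl8 i) = true := by
  decide +kernel

theorem ok8_10 : ((List.range' 640 64).all fun i =>
    ckNodeW Cfsg.Agent.Chev.E8.pk (nfQ Cfsg.Agent.Chev.E8.pk sumT) (cert8.map Prod.fst) tbl8 i) = true := by
  decide +kernel

theorem ok8_11 : ((List.range' 704 64).all fun i =>
    ckNodeW Cfsg.Agent.Chev.E8.pk (nfQ Cfsg.Agent.Chev.E8.pk sumT) (cert8.map Prod.fst) tbl8 i) = true := by
  decide +kernel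

end Cfsg.Agent.Chev.InvolCert.E8
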