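/-
Stage 6.
-/
import Cfsg.Agent.Lib.Chev.InvolCert.E8.Ck6_0
import Cfsg.Agent.Lib.Chev.InvolCert.E8.Ck6_1
import Cfsg.Agent.Lib.Chev.InvolCert.E8.Ck6_2

set_option autoImplicit false
set_option Elab.async false

namespace Cfsg.Agent.Chev.InvolCert.E8

open Cfsg.Agent.Chev Cfsg.Agent.Chev.InvolCert

theorem ok_all6 : ∀ i < 700, ckNode Cfsg.Agent.Chev.E8.pk (cert6.map Prod.fst) tbl6 i = true := by
  intro i hi
  refine ckNode_of_fast sumT_ok ?_
  have hc : i / 64 < 11 := by omega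
  obtain ⟨c, hcd⟩ : ∃ c, c = i / 64 := ⟨_, rfl⟩
  rw [← hcd] at hc
  interval_cases c
  · exact List.all_eq_true.1 ok6_0 i (List.mem_range'_1.2 (by omega))
  · exact List.all_eq_true.1 ok6_1 i (List.mem_range'_1.2 (by omega))
  · exact List.all_eq_true.1 ok6_2 i (List.mem_range'_1.2 (by omega))
  · exact List.all_eq_true.1 ok6_3 i (List.mem_range'_1.2 (by omega))
  · exact List.all_eq_true.1 ok6_4 i (List.mem_range'_1.2 (by omega))
  · exact List.all_eq_true.1 ok6_5 i (List.mem_range'_1.2 (by omega))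
  · exact List.all_eq_true.1 ok6_6 i (List.mem_range'_1.2 (by omega))
  · exact List.all_eq_true.1 ok6_7 i (List.mem_range'_1.2 (by omega))
  · exact List.all_eq_true.1 ok6_8 i (List.mem_range'_1.2 (by omega))
  · exact List.all_eq_true.1 ok6_9 i (List.mem_range'_1.2 (by omega))
  · exact List.all_eq_true.1 ok6_10 i (List.mem_range'_1.2 (by omega))

theorem use_all6 : ∀ i < 700, ckUse Cfsg.Agent.Chev.E8.pk (inL Cfsg.Agent.Chev.E8.pk 6) tbl6 i = true :=
  fun i hi => List.all_eq_true.1 (show (List.range 700).all (ckUse Cfsg.Agent.Chev.E8.pk (inL Cfsg.Agent.Chev.E8.pk 6) tbl6) = true by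
    decide +kernel) i (List.mem_range.2 hi)

theorem leaves_ok6 : cert6.all (fun c => ckLeaf Cfsg.Agent.Chev.E8.pk reps6 c &&
    ckLeafUse Cfsg.Agent.Chev.E8.pk (inL Cfsg.Agent.Chev.E8.pk 6) c) = true := by decide +kernel

theorem cov6 (F : Type*) [Field F] [CharP F 2] [Finite F] : Cov Cfsg.Agent.Chev.E8.ok F 6 reps6 :=
  cov_tree Cfsg.Agent.Chev.E8.ok ckComm_E8 (root := 699) (n := 700) (by norm_num) (by decide +kernel)
    (by decide +kernel) ok_all6 use_all6 leaves_ok6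

end Cfsg.Agent.Chev.InvolCert.E8
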