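/-
Stage 8.
-/
import Cfsg.Agent.Lib.Chev.InvolCert.E8.Ck8_0
import Cfsg.Agent.Lib.Chev.InvolCert.E8.Ck8_1
import Cfsg.Agent.Lib.Chev.InvolCert.E8.Ck8_2
import Cfsg.Agent.Lib.Chev.InvolCert.E8.Ck8_3
import Cfsg.Agent.Lib.Chev.InvolCert.E8.Ck8_4
import Cfsg.Agent.Lib.Chev.InvolCert.E8.Ck8_5
import Cfsg.Agent.Lib.Chev.InvolCert.E8.Ck8_6
import Cfsg.Agent.Lib.Chev.InvolCert.E8.Cov7

set_option autoImplicit false
set_option Elab.async false

namespace Cfsg.Agent.Chev.InvolCert.E8

open Cfsg.Agent.Chev Cfsg.Agent.Chev.InvolCert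

theorem ok_all8 : ∀ i < 1722, ckNode Cfsg.Agent.Chev.E8.pk (cert8.map Prod.fst) tbl8 i = true := by
  intro i hi
  refine ckNode_of_fast sumT_ok ?_
  have hc : i / 64 < 27 := by omega
  obtain ⟨c, hcd⟩ : ∃ c, c = i / 64 := ⟨_, rfl⟩
  rw [← hcd] at hc
  interval_cases c
  · exact List.all_eq_true.1 ok8_0 i (List.mem_range'_1.2 (by omega))
  · exact List.all_eq_true.1 ok8_1 i (List.mem_range'_1.2 (by omega))
  · exact List.all_eq_true.1 ok8_2 i (List.mem_range'_1.2 (by omega))
  · exact List.all_eq_true.1 ok8_3 i (List.mem_range'_1.2 (by omega))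
  · exact List.all_eq_true.1 ok8_4 i (List.mem_range'_1.2 (by omega))
  · exact List.all_eq_true.1 ok8_5 i (List.mem_range'_1.2 (by omega))
  · exact List.all_eq_true.1 ok8_6 i (List.mem_range'_1.2 (by omega))
  · exact List.all_eq_true.1 ok8_7 i (List.mem_range'_1.2 (by omega))
  · exact List.all_eq_true.1 ok8_8 i (List.mem_range'_1.2 (by omega))
  · exact List.all_eq_true.1 ok8_9 i (List.mem_range'_1.2 (by omega))
  · exact List.all_eq_true.1 ok8_10 i (List.mem_range'_1.2 (by omega))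
  · exact List.all_eq_true.1 ok8_11 i (List.mem_range'_1.2 (by omega))
  · exact List.all_eq_true.1 ok8_12 i (List.mem_range'_1.2 (by omega))
  · exact List.all_eq_true.1 ok8_13 i (List.mem_range'_1.2 (by omega))
  · exact List.all_eq_true.1 ok8_14 i (List.mem_range'_1.2 (by omega))
  · exact List.all_eq_true.1 ok8_15 i (List.mem_range'_1.2 (by omega))
  · exact List.all_eq_true.1 ok8_16 i (List.mem_range'_1.2 (by omega))
  · exact List.all_eq_true.1 ok8_17 i (List.mem_range'_1.2 (by omega))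
  · exact List.all_eq_true.1 ok8_18 i (List.mem_range'_1.2 (by omega))
  · exact List.all_eq_true.1 ok8_19 i (List.mem_range'_1.2 (by omega))
  · exact List.all_eq_true.1 ok8_20 i (List.mem_range'_1.2 (by omega))
  · exact List.all_eq_true.1 ok8_21 i (List.mem_range'_1.2 (by omega))
  · exact List.all_eq_true.1 ok8_22 i (List.mem_range'_1.2 (by omega))
  · exact List.all_eq_true.1 ok8_23 i (List.mem_range'_1.2 (by omega))
  · exact List.all_eq_true.1 ok8_24 i (List.mem_range'_1.2 (by omega))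
  · exact List.all_eq_true.1 ok8_25 i (List.mem_range'_1.2 (by omega))
  · exact List.all_eq_true.1 ok8_26 i (List.mem_range'_1.2 (by omega))

theorem use_all8 : ∀ i < 1722, ckUse Cfsg.Agent.Chev.E8.pk (inL Cfsg.Agent.Chev.E8.pk 8) tbl8 i = true :=
  fun i hi => List.all_eq_true.1 (show (List.range 1722).all (ckUse Cfsg.Agent.Chev.E8.pk (inL Cfsg.Agent.Chev.E8.pk 8) tbl8) = true by
    decide +kernel) i (List.mem_range.2 hi)

theorem leaves_ok8 : cert8.all (fun c => ckLeaf Cfsg.Agent.Chev.E8.pk reps8 c &&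
    ckLeafUse Cfsg.Agent.Chev.E8.pk (inL Cfsg.Agent.Chev.E8.pk 8) c) = true := by decide +kernel

theorem cov8 (F : Type*) [Field F] [CharP F 2] [Finite F] : Cov Cfsg.Agent.Chev.E8.ok F 8 reps8 :=
  cov_stage Cfsg.Agent.Chev.E8.ok ckComm_E8 (k := 7) (n := 1722) (starts := starts8) (by decide +kernel) (by decide +kernel)
    (by decide +kernel) (by decide +kernel) (cov7 F) (by decide +kernel) (by decide +kernel)
    ok_all8 use_all8 leaves_ok8

end Cfsg.Agent.Chev.InvolCert.E8
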