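/-
Separation of the representatives.
-/
import Cfsg.Agent.Lib.Chev.InvolCert.E8.Sep0
import Cfsg.Agent.Lib.Chev.InvolCert.E8.Sep1
import Cfsg.Agent.Lib.Chev.InvolCert.E8.Sep2
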