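/-
The involutions of the group of type E8 in characteristic two.
-/
import Cfsg.Agent.Lib.Chev.InvolCert.E8.Cov8
import Cfsg.Agent.Lib.Chev.InvolCert.E8.Sep
import Cfsg.Agent.Lib.Chev.InvolCert.Final

set_option autoImplicit false

namespace Cfsg.Agent.Chev.InvolCert.E8

open Cfsg.Lie Cfsg.Agent.Chev Cfsg.Agent.Chev.InvolCert

theorem reps_ok : reps8.all (ckRep Cfsg.Agent.Chev.E8.pk) = true := by decide +kernel

variable {F : Type*} [Field F] [Fintype F] [CharP F 2]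

theorem cover {g : GL chevE8.Idx F} (hg : g ∈ chevE8.group F) (ho : orderOf g = 2) :
    ∃ R ∈ reps8, ∃ x ∈ chevE8.group F, x * g * x⁻¹ = prd Cfsg.Agent.Chev.E8.ok (fun _ => 1) R :=
  exists_class_cov Cfsg.Agent.Chev.E8.ok ckComm_E8 (k := 8) (by decide +kernel) (cov8 F) hg ho

theorem sep : ∀ i j, i < reps8.length → j < reps8.length → i ≠ j → ∀ x ∈ chevE8.group F,
    x * prd Cfsg.Agent.Chev.E8.ok (fun _ => (1 : F)) (reps8.getD i []) * x⁻¹ ≠ prd Cfsg.Agent.Chev.E8.ok (fun _ => 1) (reps8.getD j []) := by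
  intro i j hi hj hij x hx
  have hl : reps8.length = 4 := rfl
  rw [hl] at hi hj
  interval_cases i <;> interval_cases j
  · exact absurd rfl hij
  · exact (ne_of_sep Cfsg.Agent.Chev.E8.ok w0_ok sep0_1 hx).1
  · exact (ne_of_sep Cfsg.Agent.Chev.E8.ok w0_ok sep0_2 hx).1
  · exact (ne_of_sep Cfsg.Agent.Chev.E8.ok w0_ok sep0_3 hx).1
  · exact (ne_of_sep Cfsg.Agent.Chev.E8.ok w0_ok sep0_1 hx).2
  · exact absurd rfl hij
  · exact (ne_of_sep Cfsg.Agent.Chev.E8.ok w0_ok sep1_2 hx).1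
  · exact (ne_of_sep Cfsg.Agent.Chev.E8.ok w0_ok sep1_3 hx).1
  · exact (ne_of_sep Cfsg.Agent.Chev.E8.ok w0_ok sep0_2 hx).2
  · exact (ne_of_sep Cfsg.Agent.Chev.E8.ok w0_ok sep1_2 hx).2
  · exact absurd rfl hij
  · exact (ne_of_sep Cfsg.Agent.Chev.E8.ok w0_ok sep2_3 hx).1
  · exact (ne_of_sep Cfsg.Agent.Chev.E8.ok w0_ok sep0_3 hx).2
  · exact (ne_of_sep Cfsg.Agent.Chev.E8.ok w0_ok sep1_3 hx).2
  · exact (ne_of_sep Cfsg.Agent.Chev.E8.ok w0_ok sep2_3 hx).2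
  · exact absurd rfl hij

end Cfsg.Agent.Chev.InvolCert.E8
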