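/-
Separation of the representatives.
-/
import Cfsg.Agent.Lib.Chev.InvolCert.Rank
import Cfsg.Agent.Lib.Chev.AllC

set_option autoImplicit false
set_option Elab.async false

namespace Cfsg.Agent.Chev.InvolCert.E8

open Cfsg.Agent.Chev.InvolCert

/-- A stable set of coordinates. -/
def w0 : ℕ → Bool := fun _ => true

theorem w0_ok : ckW Cfsg.Agent.Chev.E8.pk w0 = true := by decide +kernel

end Cfsg.Agent.Chev.InvolCert.E8
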